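import Cfsg.Agent.H209.IF.Defs

/-!
# S5719, engine D (helper219): `IF.J` (ENG7) and `IF.odd` (ENG8)
-/

set_option autoImplicit false
set_option linter.unusedSectionVars false

namespace Cfsg.Agent.H219.IFD

open MulAction Subgroup Cfsg.Agent.H284 Cfsg.Agent.H209.Fxy

variable {T : Type*} [Group T] [Finite T] {A : Subgroup T} {Γ : Subgroup (MulAut T)}

/-- the fixed points of `σ` -/
def cen (σ : MulAut T) : Subgroup T where
  carrier := {x | σ x = x}
  one_mem' := map_one σ
  mul_mem' := by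
    intro a b ha hb
    change σ (a * b) = a * b
    rw [map_mul, ha, hb]
  inv_mem' := by
    intro a ha
    change σ a⁻¹ = a⁻¹
    rw [map_inv, ha]

theorem mem_cen {σ : MulAut T} {x : T} : x ∈ cen σ ↔ σ x = x := Iff.rfl

/-- the fixed cosets of an involution when `|A|` is odd -/
theorem exists_rep (hodd : Odd (Nat.card A)) {σ : MulAut T} (h2 : σ * σ = 1) {y : T} (hy : y⁻¹ * σ y ∈ A) :
    ∃ c ∈ A, σ (y * c) = y * c := by
  obtain ⟨k, hk⟩ := hodd
  set b : T := y⁻¹ * σ y with hb
  have hσσ : ∀ x, σ (σ x) = x := fun x => by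
    have := DFunLike.congr_fun h2 x
    exact this
  have hσb : σ b = b⁻¹ := by rw [hb, map_mul, map_inv, hσσ, mul_inv_rev, inv_inv]
  have hbn : b ^ (2 * k + 1) = 1 := by
    have h3 : (⟨b, hy⟩ : A) ^ Nat.card A = 1 := pow_card_eq_one'
    rw [hk] at h3
    exact congrArg Subtype.val h3
  refine ⟨b ^ (k + 1), A.pow_mem hy _, ?_⟩
  rw [map_mul, map_pow, hσb]
  have h4 : σ y = y * b := by rw [hb, mul_inv_cancel_left]
  rw [h4, mul_assoc]
  congr 1
  rw [inv_pow, mul_inv_eq_iff_eq_mul, ← pow_add]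
  have h5 : k + 1 + (k + 1) = (2 * k + 1) + 1 := by ring
  rw [h5, pow_succ, hbn, one_mul]

/-- the number of cosets meeting a subgroup `B` -/
theorem ncard_image (A B : Subgroup T) :
    ((fun y : T => (y : T ⧸ A)) '' (B : Set T)).ncard * Nat.card {a : T // a ∈ A ∧ a ∈ B} = Nat.card B := by
  classical
  have h1 : ((fun y : T => (y : T ⧸ A)) '' (B : Set T)).ncard = (A.subgroupOf B).index := by
    have e : (B ⧸ A.subgroupOf B) ≃ ((fun y : T => (y : T ⧸ A)) '' (B : Set T)) := by
      refine Equiv.ofBijective (Quotient.lift (fun b : B => ⟨((b : T) : T ⧸ A), ⟨b, b.2, rfl⟩⟩) ?_) ⟨?_, ?_⟩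
      · intro a b hab
        have h2 : a⁻¹ * b ∈ A.subgroupOf B := QuotientGroup.leftRel_apply.1 hab
        apply Subtype.ext
        exact QuotientGroup.eq.2 h2
      · intro a b hab
        induction a using QuotientGroup.induction_on with
        | H a =>
          induction b using QuotientGroup.induction_on with
          | H b =>
            have h2 := congrArg Subtype.val hab
            have h3 := QuotientGroup.eq.1 h2
            exact QuotientGroup.eq.2 h3
      · rintro ⟨_, y, hy, rfl⟩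
        exact ⟨((⟨y, hy⟩ : B) : B ⧸ A.subgroupOf B), rfl⟩
    exact (Nat.card_congr e).symm
  have h2 : Nat.card {a : T // a ∈ A ∧ a ∈ B} = Nat.card (A.subgroupOf B) := by
    refine Nat.card_congr ⟨fun a => ⟨⟨a.1, a.2.2⟩, a.2.1⟩, fun a => ⟨a.1.1, a.2, a.1.2⟩, fun a => rfl, fun a => rfl⟩
  rw [h1, h2, mul_comm, Subgroup.card_mul_index]

/-- ENG8. If `A` has odd order: for an involution `σ ∈ Γ`: `f(σ) |C_A(σ)| = |C_T(σ)|`. -/
theorem IF.odd (h : IF A Γ) (hodd : Odd (Nat.card A)) {σ : MulAut T} (hσ : σ ∈ Γ) (h2 : orderOf σ = 2) :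
    fx A σ * Nat.card {a : T // a ∈ A ∧ σ a = a} = Nat.card {x : T // σ x = x} := by
  have h3 : σ * σ = 1 := by rw [← pow_two, ← h2, pow_orderOf_eq_one]
  have h4 : fixSet A σ = (fun y : T => (y : T ⧸ A)) '' (cen σ : Set T) := by
    ext c
    constructor
    · rintro ⟨y, rfl, hy⟩
      obtain ⟨b, hb, hyb⟩ := exists_rep hodd h3 hy
      refine ⟨y * b, hyb, ?_⟩
      change ((y * b : T) : T ⧸ A) = (y : T ⧸ A)
      rw [QuotientGroup.eq]
      have : (y * b)⁻¹ * y = b⁻¹ := by group
      rw [this]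
      exact A.inv_mem hb
    · rintro ⟨y, hy, rfl⟩
      refine ⟨y, rfl, ?_⟩
      have hy' : σ y = y := hy
      rw [hy', inv_mul_cancel]
      exact A.one_mem
  rw [fx, h4]
  exact ncard_image A (cen σ)

/-- conjugations of order two -/
theorem orderOf_conj [IsSimpleGroup T] (hna : ∃ a b : T, a * b ≠ b * a) {t : T} (h2 : orderOf t = 2) :
    orderOf (MulAut.conj t) = 2 := by
  have hinj : Function.Injective (MulAut.conj : T →* MulAut T) := by
    rw [injective_iff_map_eq_one]
    intro z hz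
    have hzc : z ∈ center T := mem_center_iff.2 fun g => by
      have h3 := DFunLike.congr_fun hz g
      rw [MulAut.conj_apply, MulAut.one_apply, mul_inv_eq_iff_eq_mul] at h3
      exact h3.symm
    rcases (inferInstance : (center T).Normal).eq_bot_or_eq_top with h4 | h4
    · rwa [h4, mem_bot] at hzc
    · obtain ⟨a, b, hab⟩ := hna
      exfalso
      apply hab
      have h5 : b ∈ center T := by rw [h4]; exact mem_top b
      exact mem_center_iff.1 h5 a
  rw [orderOf_injective _ hinj, h2]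

/-- the fixed points of `t ∈ A` on `T/A` -/
theorem fixSet_conj {t : T} (ht : t ∈ A) : fixSet A (MulAut.conj t) = {c : T ⧸ A | t • c = c} := by
  ext c
  constructor
  · rintro ⟨y, rfl, hy⟩
    change t • ((y : T) : T ⧸ A) = (y : T ⧸ A)
    rw [MulAction.Quotient.smul_coe, smul_eq_mul, eq_comm, QuotientGroup.eq]
    rw [MulAut.conj_apply] at hy
    have h1 := A.mul_mem hy ht
    have h2 : y⁻¹ * (t * y * t⁻¹) * t = y⁻¹ * (t * y) := by group
    rwa [h2] at h1
  · induction c using QuotientGroup.induction_on with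
    | H y =>
      intro hy
      change t • ((y : T) : T ⧸ A) = (y : T ⧸ A) at hy
      rw [MulAction.Quotient.smul_coe, smul_eq_mul, eq_comm, QuotientGroup.eq] at hy
      refine ⟨y, rfl, ?_⟩
      rw [MulAut.conj_apply]
      have h2 : y⁻¹ * (t * y * t⁻¹) = y⁻¹ * (t * y) * t⁻¹ := by group
      rw [h2]
      exact A.mul_mem hy (A.inv_mem ht)

/-- an involution of `T` fixes at most `M` cosets if those of `A` do -/
theorem fix_le {M : ℕ} (hM : ∀ s ∈ A, orderOf s = 2 → {c : T ⧸ A | s • c = c}.ncard ≤ M) {t : T}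
    (ht : orderOf t = 2) : {c : T ⧸ A | t • c = c}.ncard ≤ M := by
  rcases Set.eq_empty_or_nonempty {c : T ⧸ A | t • c = c} with h1 | ⟨c, hc⟩
  · rw [h1, Set.ncard_empty]
    exact Nat.zero_le _
  · induction c using QuotientGroup.induction_on with
    | H y =>
      change t • ((y : T) : T ⧸ A) = (y : T ⧸ A) at hc
      rw [MulAction.Quotient.smul_coe, smul_eq_mul, eq_comm, QuotientGroup.eq] at hc
      have h2 : orderOf (y⁻¹ * (t * y)) = 2 := by
        have h3 : y⁻¹ * (t * y) = MulAut.conj y⁻¹ t := by rw [MulAut.conj_apply]; group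
        rw [h3, MulEquiv.orderOf_eq, ht]
      refine le_trans (le_of_eq ?_) (hM _ hc h2)
      rw [← Set.ncard_image_of_injective {c : T ⧸ A | t • c = c} (MulAction.injective (y⁻¹ : T))]
      congr 1
      ext c
      constructor
      · rintro ⟨d, hd, rfl⟩
        change (y⁻¹ * (t * y)) • y⁻¹ • d = y⁻¹ • d
        change t • d = d at hd
        rw [smul_smul]
        have h3 : y⁻¹ * (t * y) * y⁻¹ = y⁻¹ * t := by group
        rw [h3, mul_smul, hd]
      · intro hd
        change (y⁻¹ * (t * y)) • c = c at hd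
        refine ⟨y • c, ?_, inv_smul_smul y c⟩
        change t • y • c = y • c
        rw [mul_smul, mul_smul, inv_smul_eq_iff] at hd
        exact hd

/-- ENG7 (J). `n^(5/6) i₂(A) < i₂(T)`. -/
theorem IF.J [IsSimpleGroup T] (h : IF A Γ) (hna : ∃ a b : T, a * b ≠ b * a) (hev : ∃ t ∈ A, orderOf t = 2) :
    A.index ^ 5 * {t : T | t ∈ A ∧ orderOf t = 2}.ncard ^ 6 < {t : T | orderOf t = 2}.ncard ^ 6 := by
  classical
  have : Fintype T := Fintype.ofFinite T
  have : Fintype (T ⧸ A) := Fintype.ofFinite _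
  -- the maximal fixity
  obtain ⟨M, hM6, hM⟩ : ∃ M : ℕ, M ^ 6 < A.index ∧ ∀ s ∈ A, orderOf s = 2 → {c : T ⧸ A | s • c = c}.ncard ≤ M := by
    have hne : (Finset.univ.filter fun s : T => s ∈ A ∧ orderOf s = 2).Nonempty := by
      obtain ⟨t, ht, ht2⟩ := hev
      exact ⟨t, Finset.mem_filter.2 ⟨Finset.mem_univ _, ht, ht2⟩⟩
    obtain ⟨s, hs, hmax⟩ := Finset.exists_max_image _ (fun s : T => {c : T ⧸ A | s • c = c}.ncard) hne
    rw [Finset.mem_filter] at hs
    refine ⟨{c : T ⧸ A | s • c = c}.ncard, ?_, fun r hr hr2 =>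
      hmax r (Finset.mem_filter.2 ⟨Finset.mem_univ _, hr, hr2⟩)⟩
    have h1 := h.small (MulAut.conj s) ((h.conj s).2 hs.2.1) (orderOf_conj hna hs.2.2)
    rwa [fx, fixSet_conj hs.2.1] at h1
  -- double counting
  have key := Finset.sum_card_bipartiteAbove_eq_sum_card_bipartiteBelow (s := Finset.univ.filter fun t : T => orderOf t = 2)
    (t := (Finset.univ : Finset (T ⧸ A))) (fun (t : T) (c : T ⧸ A) => t • c = c)
  have h1 : ∀ c : T ⧸ A, (Finset.bipartiteBelow (fun (t : T) (c : T ⧸ A) => t • c = c)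
      (Finset.univ.filter fun t : T => orderOf t = 2) c).card = {t : T | t ∈ A ∧ orderOf t = 2}.ncard := by
    intro c
    induction c using QuotientGroup.induction_on with
    | H y =>
      rw [← Set.ncard_coe_finset, ← Set.ncard_image_of_injective {t : T | t ∈ A ∧ orderOf t = 2} (MulAut.conj y).injective]
      congr 1
      ext t
      rw [Finset.mem_coe, Finset.mem_bipartiteBelow, Finset.mem_filter]
      constructor
      · rintro ⟨⟨-, h2⟩, h3⟩
        rw [MulAction.Quotient.smul_coe, smul_eq_mul, eq_comm, QuotientGroup.eq] at h3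
        refine ⟨y⁻¹ * (t * y), ⟨h3, ?_⟩, ?_⟩
        · have h4 : y⁻¹ * (t * y) = MulAut.conj y⁻¹ t := by rw [MulAut.conj_apply]; group
          rw [h4, MulEquiv.orderOf_eq, h2]
        · rw [MulAut.conj_apply]
          group
      · rintro ⟨s, ⟨hs, hs2⟩, rfl⟩
        refine ⟨⟨Finset.mem_univ _, ?_⟩, ?_⟩
        · rw [MulEquiv.orderOf_eq, hs2]
        · rw [MulAction.Quotient.smul_coe, smul_eq_mul, eq_comm, QuotientGroup.eq, MulAut.conj_apply]
          have : y⁻¹ * (y * s * y⁻¹ * y) = s := by group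
          rw [this]
          exact hs
  have h2 : ∀ t ∈ Finset.univ.filter (fun t : T => orderOf t = 2),
      (Finset.bipartiteAbove (fun (t : T) (c : T ⧸ A) => t • c = c) (Finset.univ : Finset (T ⧸ A)) t).card ≤ M := by
    intro t ht
    refine le_trans (le_of_eq ?_) (fix_le hM (Finset.mem_filter.1 ht).2)
    rw [← Set.ncard_coe_finset]
    congr 1
    ext c
    rw [Finset.mem_coe, Finset.mem_bipartiteAbove]
    exact and_iff_right (Finset.mem_univ _)
  have h3 : (Finset.univ.filter fun t : T => orderOf t = 2).card = {t : T | orderOf t = 2}.ncard := by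
    rw [← Set.ncard_coe_finset]
    congr 1
    ext t
    rw [Finset.mem_coe, Finset.mem_filter]
    exact and_iff_right (Finset.mem_univ _)
  have h4 : A.index * {t : T | t ∈ A ∧ orderOf t = 2}.ncard ≤ {t : T | orderOf t = 2}.ncard * M := by
    rw [← h3]
    calc A.index * {t : T | t ∈ A ∧ orderOf t = 2}.ncard
        = ∑ c : T ⧸ A, (Finset.bipartiteBelow (fun (t : T) (c : T ⧸ A) => t • c = c)
            (Finset.univ.filter fun t : T => orderOf t = 2) c).card := by
          rw [Finset.sum_congr rfl fun c _ => h1 c, Finset.sum_const, smul_eq_mul, Finset.card_univ,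
            ← Nat.card_eq_fintype_card]
          rfl
      _ = ∑ t ∈ Finset.univ.filter (fun t : T => orderOf t = 2),
            (Finset.bipartiteAbove (fun (t : T) (c : T ⧸ A) => t • c = c) (Finset.univ : Finset (T ⧸ A)) t).card :=
          key.symm
      _ ≤ ∑ _t ∈ Finset.univ.filter (fun t : T => orderOf t = 2), M := Finset.sum_le_sum h2
      _ = _ := by rw [Finset.sum_const, smul_eq_mul]
  have h5 : 0 < {t : T | orderOf t = 2}.ncard := by
    obtain ⟨t, ht, ht2⟩ := hev
    exact (Set.ncard_pos (Set.toFinite _)).2 ⟨t, ht2⟩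
  have h6 : 0 < A.index := Nat.pos_of_ne_zero A.index_ne_zero_of_finite
  have h7 := Nat.pow_le_pow_left h4 6
  rw [mul_pow, mul_pow] at h7
  have h8 : A.index * (A.index ^ 5 * {t : T | t ∈ A ∧ orderOf t = 2}.ncard ^ 6) <
      A.index * {t : T | orderOf t = 2}.ncard ^ 6 := by
    calc A.index * (A.index ^ 5 * {t : T | t ∈ A ∧ orderOf t = 2}.ncard ^ 6)
        = A.index ^ 6 * {t : T | t ∈ A ∧ orderOf t = 2}.ncard ^ 6 := by ring
      _ ≤ {t : T | orderOf t = 2}.ncard ^ 6 * M ^ 6 := h7
      _ < {t : T | orderOf t = 2}.ncard ^ 6 * A.index := Nat.mul_lt_mul_of_pos_left hM6 (Nat.pow_pos h5)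
      _ = _ := by ring
  exact Nat.lt_of_mul_lt_mul_left h8

end Cfsg.Agent.H219.IFD
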